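import Groth.Agent.CurveFF.Base
import Groth.Agent.CurveLuroth.FF
import Groth.Agent.H23.FrobDegree
import Mathlib.FieldTheory.PurelyInseparable.Exponent

/-! A purely inseparable subfield of a one-variable function field is the image of a Frobenius. -/

noncomputable section

set_option linter.style.haveILetI false
set_option linter.unusedSectionVars false
set_option backward.isDefEq.respectTransparency false
set_option backward.isDefEq.respectTransparency.types false

universe u

open CategoryTheory CategoryTheory.Limits AlgebraicGeometry Module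

namespace Groth.Agent.CurveFrob

/-- A subfield with purely inseparable extension is isomorphic to the whole field, semilinearly. -/
theorem exists_frob_equiv {k K L : Type u} [Field k] [PerfectField k] [Field K] [Field L] [Algebra k L]
    [Algebra k K] [Algebra L K] [IsScalarTower k L K] [IsPurelyInseparable L K]
    [Algebra.EssFiniteType k K] (hd : Algebra.trdeg k K = 1) :
    ∃ (τ : k ≃+* k) (φ : L ≃+* K), ∀ c, φ (algebraMap k L c) = algebraMap k K (τ c) := by
  obtain ⟨p, hp⟩ := CharP.exists k
  rcases CharP.char_is_prime_or_zero k p with hp' | rfl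
  swap
  · haveI := CharP.charP_to_charZero k
    haveI : CharZero L := charZero_of_injective_algebraMap (algebraMap k L).injective
    refine ⟨RingEquiv.refl k, RingEquiv.ofBijective (algebraMap L K)
      (IsPurelyInseparable.bijective_algebraMap_of_isSeparable L K), fun c => ?_⟩
    exact (IsScalarTower.algebraMap_apply k L K c).symm
  haveI := Fact.mk hp'
  haveI : CharP K p := RingHom.charP_iff (algebraMap k K) (algebraMap k K).injective p |>.1 hp
  haveI : CharP L p := RingHom.charP_iff (algebraMap k L) (algebraMap k L).injective p |>.1 hp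
  haveI : ExpChar K p := .prime hp'
  haveI : ExpChar L p := .prime hp'
  haveI : ExpChar k p := .prime hp'
  haveI : PerfectRing k p := PerfectField.toPerfectRing p
  haveI : Algebra.EssFiniteType L K := Algebra.EssFiniteType.of_comp k L K
  haveI : FiniteDimensional L K := by
    obtain ⟨S, hS⟩ := IntermediateField.fg_top L K
    have : FiniteDimensional L (IntermediateField.adjoin L (S : Set K)) :=
      IntermediateField.finiteDimensional_adjoin fun x _ => IsPurelyInseparable.isIntegral' L x
    rw [hS] at this
    exact Module.Finite.equiv (IntermediateField.topEquiv (F := L) (E := K)).toLinearEquiv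
  obtain ⟨n, hn⟩ := IsPurelyInseparable.finrank_eq_pow L K p
  have hmem : ∀ a : K, a ^ p ^ n ∈ (algebraMap L K).range := fun a => by
    have h1 := minpoly.degree_dvd (K := L) (IsPurelyInseparable.isIntegral' L a)
    rw [IsPurelyInseparable.minpoly_natDegree_eq' L p, hn] at h1
    obtain ⟨j, hj⟩ := Nat.exists_eq_add_of_le ((Nat.pow_dvd_pow_iff_le_right hp'.one_lt).1 h1)
    rw [hj, pow_add, pow_mul]
    exact pow_mem (IsPurelyInseparable.elemExponent_def' L p a) _
  -- the two subfields coincide
  obtain ⟨t, ht⟩ := IntermediateField.fg_top k K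
  obtain ⟨s, hs⟩ := exists_isTranscendenceBasis k K
  have hcard : Cardinal.mk s = 1 := hs.cardinalMk_eq_trdeg.trans hd
  obtain ⟨⟨hsub⟩, ⟨a⟩⟩ := Cardinal.eq_one_iff_unique.1 hcard
  haveI : Unique s := { default := a, uniq := fun b => hsub b a }
  have hs' : IsTranscendenceBasis k (fun _ : Fin 1 => (a : K)) := by
    have h := hs.comp_equiv (Equiv.ofUnique (Fin 1) s)
    have he : (Subtype.val ∘ ⇑(Equiv.ofUnique (Fin 1) s)) = fun _ => (a : K) :=
      funext fun i => congrArg Subtype.val (hsub _ _)
    rwa [he] at h
  have hdeg := H23.FrobDegree.finrank_adjoin_pow k K p t ht 1 _ hs' n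
  let M := IntermediateField.adjoin k (Set.range fun x : K => x ^ p ^ n)
  let N := (IsScalarTower.toAlgHom k L K).fieldRange
  have hN : finrank N K = p ^ n := by
    rw [← hn]
    exact (Algebra.finrank_eq_of_equiv_equiv
      ((IsScalarTower.toAlgHom k L K).equivFieldRange).toRingEquiv (RingEquiv.refl K) (by ext x; rfl)).symm
  haveI : FiniteDimensional M K := FiniteDimensional.of_finrank_pos (by
    rw [hdeg, pow_one]; exact pow_pos hp'.pos n)
  have hMN : M = N := by
    refine IntermediateField.eq_of_le_of_finrank_eq' ?_ (by rw [hdeg, hN, pow_one])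
    rw [IntermediateField.adjoin_le_iff]
    rintro _ ⟨x, rfl⟩
    exact hmem x
  let F : K →+* K := iterateFrobenius K p n
  have hF : ∀ l : L, algebraMap L K l ∈ F.fieldRange := fun l => by
    rw [← H23.FrobDegree.adjoin_toSubfield (k := k) p n]
    show algebraMap L K l ∈ M
    rw [hMN]
    exact ⟨l, rfl⟩
  choose g hg using fun l => RingHom.mem_fieldRange.1 (hF l)
  have hinj : Function.Injective F := F.injective
  let gh : L →+* K :=
    { toFun := g
      map_one' := hinj (by simp [hg])
      map_mul' := fun x y => hinj (by simp [hg])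
      map_zero' := hinj (by simp [hg])
      map_add' := fun x y => hinj (by simp [hg]) }
  have hb : Function.Bijective gh := ⟨gh.injective, fun a => by
    obtain ⟨l, hl⟩ := hmem a
    exact ⟨l, hinj ((hg l).trans (hl.trans (iterateFrobenius_def ..).symm))⟩⟩
  refine ⟨(iterateFrobeniusEquiv k p n).symm, RingEquiv.ofBijective gh hb, fun c => hinj ?_⟩
  refine (hg _).trans ?_
  rw [← IsScalarTower.algebraMap_apply, iterateFrobenius_def, ← map_pow,
    ← iterateFrobeniusEquiv_def k p n, RingEquiv.apply_symm_apply]

variable {k : Type u} [Field k] (X : Scheme.{u}) [X.Over (Spec (CommRingCat.of k))] [IsIntegral X]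

theorem ffC_apply (c : k) :
    (CurveLuroth.ffC (X ↘ Spec (CommRingCat.of k))).hom c = Curv2.stalkMap k X (genericPoint X) c := by
  have h : CurveLuroth.ffC (X ↘ Spec (CommRingCat.of k)) = (Scheme.ΓSpecIso (CommRingCat.of k)).inv ≫
      (X ↘ Spec (CommRingCat.of k)).appTop ≫ X.presheaf.germ ⊤ (genericPoint X) trivial := by
    have h1 := congrArg Scheme.Hom.appTop (CurveLuroth.spec_ffC (X ↘ Spec (CommRingCat.of k)))
    rw [Scheme.Hom.comp_appTop, Scheme.fromSpecStalk_appTop] at h1
    rw [← cancel_mono (Scheme.ΓSpecIso (X.presheaf.stalk (genericPoint X))).inv]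
    refine (Scheme.ΓSpecIso_inv_naturality _).trans ?_
    rw [h1]
    simp
  rw [h]
  rfl

end Groth.Agent.CurveFrob
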